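import Cfsg.Agent.H704.S8.Defs
import Cfsg.Agent.H29.AltRow

/-!
# Degrees of an almost simple group from characters of the socle which extend to `Aut S` (helper52, S4908)

* `mem_of_ext` : the degree of a character of `S` which extends to `Aut S` is a degree of `A`;
* `lie_mem` : the Steinberg degree; `alt_mem` : the degrees `n - 1`, `n (n - 3) / 2`, `(n - 1) (n - 2) / 2`.
-/

set_option autoImplicit false

open Cfsg Subgroup
open Cfsg.Agent.Characters.Core Cfsg.Agent.H691.AN Cfsg.Agent.H681.DegBasic Cfsg.Agent.H671.H5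

namespace Cfsg.Agent.H52.S8

universe u

variable {A : Type u} [Group A] [Finite A] {S : Subgroup A}

/-- **A character of the socle which extends to `Aut S` gives a degree of `A`.** -/
theorem mem_of_ext (hA : AlmostSimple A S) {θ : IrrCharacter S} (h : ExtAut θ) :
    charDegree (θ : S → ℂ) ∈ charDegrees A := by
  have := hA.normal
  obtain ⟨ψ, hψ⟩ := h
  have h1 : IsCharacter A ((ψ : MulAut S → ℂ) ∘ (MulAut.conjNormal : A →* MulAut S)) :=
    isCharacter_comp _ (isIrr_isCharacter ψ.2)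
  have h2 : ((ψ : MulAut S → ℂ) ∘ (MulAut.conjNormal : A →* MulAut S)) ∘ S.subtype = (θ : S → ℂ) := by
    funext s
    have h5 : (MulAut.conjNormal (s : A) : MulAut S) = MulAut.conj s := by
      ext t
      simp
    rw [← hψ s, ← h5]
    rfl
  have h3 : IsIrrCharacter A ((ψ : MulAut S → ℂ) ∘ (MulAut.conjNormal : A →* MulAut S)) :=
    CharactersDeep.MaxInduced.isIrr_of_comp S.subtype h1 (by rw [h2]; exact θ.2)
  refine mem_charDegrees.2 ⟨_, h3, ?_⟩
  have h4 : ((ψ : MulAut S → ℂ) ∘ (MulAut.conjNormal : A →* MulAut S)) 1 = (θ : S → ℂ) 1 := by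
    rw [← h2]; rfl
  rw [h4]
  obtain ⟨n, hn⟩ := isCharacter_apply_one (isIrr_isCharacter θ.2)
  rw [hn]
  unfold charDegree
  rw [hn]
  simp

/-- **Lie type: the Steinberg degree.** -/
theorem lie_mem (hA : AlmostSimple A S) {p : ℕ} (hp : p.Prime) (h : Cfsg.IsLieTypeChar p S) :
    p ^ (Nat.card S).factorization p ∈ charDegrees A := by
  have : Fact p.Prime := ⟨hp⟩
  have := hA.simple
  obtain ⟨θ, h1, h2⟩ := H761.LieExt.lie_ext hA.nonab h
  rw [← h1]
  exact mem_of_ext hA h2

/-- **Alternating groups.** -/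
theorem alt_mem (hA : AlmostSimple A S) {k : ℕ} (e : S ≃* alternatingGroup (Fin (k + 7))) :
    k + 6 ∈ charDegrees A ∧ (k + 7) * (k + 4) / 2 ∈ charDegrees A ∧ (k + 6) * (k + 5) / 2 ∈ charDegrees A := by
  have key : ∀ {m : ℕ} {β : Fin m → ℕ} {d : ℕ}, H949.GoodAlt.Dt (k + 7) β d → d ∈ charDegrees A := by
    intro m β d B
    obtain ⟨α, hα, hα'⟩ := H875.AltCop.exists_of_dt (by omega) B
    obtain ⟨θ, h1, h2⟩ := H875.AltCop.ext_transport e α hα'
    rw [← hα, ← h1]
    exact mem_of_ext hA h2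
  obtain ⟨d2, h2, B2⟩ := H949.GoodAlt.dt2 k
  obtain ⟨d3, h3, B3⟩ := H949.GoodAlt.dt3 k
  refine ⟨key (H949.GoodAlt.dt1 k), ?_, ?_⟩
  · rw [← h2, Nat.mul_div_cancel_left _ (by norm_num)]
    exact key B2
  · rw [← h3, Nat.mul_div_cancel_left _ (by norm_num)]
    exact key B3

end Cfsg.Agent.H52.S8
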