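import Cfsg.Agent.H52.S8.Ext
import Cfsg.Agent.H284.SepOrd
import Cfsg.Agent.OrdDiv.Table

/-!
# The Steinberg degree of a group of Lie type: the exponents 1 and 5 (helper52, S4908)
-/

set_option autoImplicit false

open Cfsg
open Cfsg.Agent.H902 Cfsg.Agent.H902.Art

namespace Cfsg.Agent.H52.S8

universe u

/-- the exponent of the characteristic in the order -/
theorem lie_exp {S : Type u} [Group S] {p : ℕ} (hp : p.Prime) (h : IsLieTypeChar p S) :
    ∃ (X : Sh) (f : ℕ), Art.Real X p f (Nat.card S) ∧ (Nat.card S).factorization p = f * NN X := by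
  obtain ⟨X, f, hr⟩ := H284.SepOrd.real_of_lie OrdDiv.table hp h
  refine ⟨X, f, hr, ?_⟩
  have h1 := hr.P_self
  rw [P, ← pow_mul] at h1
  exact Nat.pow_right_injective hp.two_le h1

theorem tri {n k : ℕ} (h : n * (n - 1) / 2 = k) (hk : k < 6) : n ≤ 3 := by
  by_contra hcon
  have h1 : 4 * 3 ≤ n * (n - 1) := Nat.mul_le_mul (by omega) (by omega)
  omega

theorem sq_lt {n k : ℕ} (h : n ^ 2 = k) (hk : k < 9) : n ≤ 2 := by
  by_contra hcon
  have h1 : 3 ^ 2 ≤ n ^ 2 := Nat.pow_le_pow_left (by omega) 2
  omega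

theorem dd_lt {n k : ℕ} (h : n * (n - 1) = k) (hk : k < 12) : n ≤ 3 := by
  by_contra hcon
  have h1 : 4 * 3 ≤ n * (n - 1) := Nat.mul_le_mul (by omega) (by omega)
  omega

/-- only `L₂` has exponent 1 -/
theorem NN_one {X : Sh} {p f M : ℕ} (hr : Art.Real X p f M) (h : NN X = 1) : X = .L 2 := by
  have hok := hr.ok
  rcases X with n | n | n | n | n | _ | _ | _ | _ | _ | _ | _ | _ | _ | _
  · have h1 := tri (n := n) h (by norm_num)
    have h2 : 2 ≤ n := hok.1
    have h3 : n = 2 ∨ n = 3 := by omega
    rcases h3 with rfl | rfl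
    · rfl
    · exact absurd h (by decide)
  · have h1 := sq_lt (n := n) h (by norm_num)
    have h2 : 2 ≤ n := hok.1
    have h3 : n = 2 := by omega
    subst h3
    exact absurd h (by decide)
  · have h1 := tri (n := n) h (by norm_num)
    have h2 : 3 ≤ n := hok.1
    have h3 : n = 3 := by omega
    subst h3
    exact absurd h (by decide)
  · have h1 := dd_lt (n := n) h (by norm_num)
    have h2 : 4 ≤ n := hok
    omega
  · have h1 := dd_lt (n := n) h (by norm_num)
    have h2 : 4 ≤ n := hok
    omega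
  all_goals exact absurd h (by decide)

/-- no shape has exponent 5 -/
theorem NN_five {X : Sh} {p f M : ℕ} (hr : Art.Real X p f M) (h : NN X = 5) : False := by
  have hok := hr.ok
  rcases X with n | n | n | n | n | _ | _ | _ | _ | _ | _ | _ | _ | _ | _
  · have h1 := tri (n := n) h (by norm_num)
    have h2 : 2 ≤ n := hok.1
    have h3 : n = 2 ∨ n = 3 := by omega
    rcases h3 with rfl | rfl
    · exact absurd h (by decide)
    · exact absurd h (by decide)
  · have h1 := sq_lt (n := n) h (by norm_num)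
    have h2 : 2 ≤ n := hok.1
    have h3 : n = 2 := by omega
    subst h3
    exact absurd h (by decide)
  · have h1 := tri (n := n) h (by norm_num)
    have h2 : 3 ≤ n := hok.1
    have h3 : n = 3 := by omega
    subst h3
    exact absurd h (by decide)
  · have h1 := dd_lt (n := n) h (by norm_num)
    have h2 : 4 ≤ n := hok
    omega
  · have h1 := dd_lt (n := n) h (by norm_num)
    have h2 : 4 ≤ n := hok
    omega
  all_goals exact absurd h (by decide)

/-- the characteristic divides the order at least twice -/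
theorem exp_ne_one {S : Type u} [Group S] (h : IsLieTypeChar 2 S) : (Nat.card S).factorization 2 ≠ 1 := by
  obtain ⟨X, f, hr, h1⟩ := lie_exp Nat.prime_two h
  intro h2
  rw [h2] at h1
  have h3 := Nat.eq_one_of_mul_eq_one_right h1.symm
  have h4 := Nat.eq_one_of_mul_eq_one_left h1.symm
  have h5 : X = .L 2 := NN_one hr h4
  subst h5
  subst h3
  have h6 := (L2_eq hr).1
  norm_num at h6

/-- the exponent 5 in characteristic 5: `L₂(5⁵)` -/
theorem exp_five {S : Type u} [Group S] (h : IsLieTypeChar 5 S) (h5 : (Nat.card S).factorization 5 = 5) :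
    521 ∣ Nat.card S := by
  obtain ⟨X, f, hr, h1⟩ := lie_exp (by norm_num) h
  rw [h5] at h1
  have h2 : f ∣ 5 := ⟨_, h1⟩
  rcases (Nat.dvd_prime (by norm_num : Nat.Prime 5)).1 h2 with rfl | rfl
  · exact (NN_five hr (by omega)).elim
  · have h3 : X = .L 2 := NN_one hr (by omega)
    subst h3
    rcases (L2_eq hr).2 with ⟨h4, -⟩ | ⟨-, -, h4⟩
    · exact absurd h4 (by norm_num)
    · norm_num at h4
      have h6 : 521 ∣ 2 * Nat.card S := by rw [h4]; norm_num
      exact (Nat.Coprime.dvd_of_dvd_mul_left (by norm_num) h6)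

end Cfsg.Agent.H52.S8
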