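import Cfsg.Agent.H196.S8.Core
import Cfsg.Agent.H52.S8.LieExp
import Cfsg.Agent.H175.Ore.HNDeg
import Cfsg.Agent.H58.S8.Iso
import Cfsg.Agent.H55.OutGen
import Cfsg.Agent.S2082
import Cfsg.Agent.H672.SporIM.RankRows
import Cfsg.Agent.H765.DS.HSMcL
import Cfsg.Agent.H417.JOneDeg
import Cfsg.Agent.H603.FD.Spor
import Cfsg.Agent.NotCT.Orders
import Cfsg.Agent.H417.RecogMathieu

/-!
# S4908: the row SOC1 of `HN` (helper52)

The residues of the degrees modulo 19 and 11 and the small degrees (helper175) leave `5 ^ 5` as the only prime power; it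
would be the Steinberg degree of `L₂(5⁵)`, whose order is divisible by 521. (After helper196's row `Fi₂₃`.)
-/

set_option autoImplicit false
set_option maxRecDepth 100000

namespace Cfsg.Agent.H52.S8.HN

open Cfsg Subgroup
open Cfsg.Agent.H196.S8
open Cfsg.Agent.H691.AN (AlmostSimple)
open Cfsg.Agent.H653.Sieve Cfsg.Agent.H651.Two Cfsg.Agent.H511.Ore
open Cfsg.Spor (HN)

universe u v

/-- the admissible degrees of `HN` -/
def okN (d : ℕ) : Bool :=
  [0, 1, 18, 9, 10].contains (d % 19) && ([0, 1, 10].contains (d % 11) &&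
    (Nat.beq d 1 || (Nat.beq d 133 || (Nat.beq d 760 || Nat.ble 771 d))))

/-- the admissible degrees of `Aut HN` -/
def ok (d : ℕ) : Bool := okN d || (Nat.beq (d % 2) 0 && okN (d / 2))

theorem of_any {l : List (ℕ × ℤ)} {m : ℕ} (h : (l.any fun rw => Nat.beq m rw.1) = true) : m ∈ l.map Prod.fst := by
  obtain ⟨x, hx, h1⟩ := List.any_eq_true.1 h
  rw [Nat.eq_of_beq_eq_true h1]
  exact List.mem_map_of_mem hx

theorem deg_hn {d : ℕ} (hd : d ∈ charDegrees HN) : d ∣ 273030912000000 ∧ okN d = true := by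
  have := Cfsg.Agent.H710.Spor.HN.finite_hn
  have := Cfsg.Agent.H710.Spor.HN.isSimple_hn
  obtain ⟨χ, rfl⟩ := hd
  refine ⟨by rw [← H175.Ore.HNDeg.card_hn]; exact charDegree_dvd χ, ?_⟩
  have key := fun {c : CD} (hc : c ∈ H175.Ore.HNDeg.cd) =>
    of_any (res_of_has H175.Ore.HNDeg.not_comm H175.Ore.HNDeg.card_hn
      (H175.Ore.HNDeg.cd_has c hc) (List.all_eq_true.1 H175.Ore.HNDeg.cd_ok _ hc) χ)
  have h1 := key (List.mem_cons_self)
  have h2 := key (List.mem_cons_of_mem _ List.mem_cons_self)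
  rw [okN, Bool.and_eq_true, Bool.and_eq_true, Bool.or_eq_true, Bool.or_eq_true, Bool.or_eq_true]
  refine ⟨List.contains_iff_mem.2 h1, List.contains_iff_mem.2 h2, ?_⟩
  by_cases h3 : (χ : HN → ℂ) = 1
  · left
    have h4 : charDegree (χ : HN → ℂ) = 1 := by
      rw [h3]
      exact Blocks.Basic.charDegree_of_eq (by simp)
    rw [h4]; rfl
  · right
    rcases H175.Ore.HNDeg.deg_cases h3 with h4 | h4 | h4
    · left; rw [h4]; rfl
    · right; left; rw [h4]; rfl
    · right; right; exact Nat.ble_eq_true_of_le (by omega)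

theorem deg_X {X : Type v} [Group X] [Finite X] (h : Spor.IsoHN X) (hout : (MulAut.conj : X →* MulAut X).range.index ∣ 2)
    {D : Set ℕ} (hD : H704.S8.Deg 2 X D) {d : ℕ} (hd : d ∈ D) : d ∣ 546061824000000 ∧ ok d = true := by
  obtain ⟨e⟩ := h
  rcases hD with rfl | ⟨-, rfl⟩
  · obtain ⟨h1, h2⟩ := deg_hn (mem_of_equiv e.symm hd)
    refine ⟨h1.trans (by norm_num), ?_⟩
    rw [ok, h2]; rfl
  · have hN : ((MulAut.conj : X →* MulAut X).range).Normal := by
      refine ⟨?_⟩
      rintro _ ⟨x, rfl⟩ g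
      exact ⟨g x, by
        ext y
        simp⟩
    obtain ⟨f, hf, ⟨c, rfl⟩, h2⟩ := H424.DegTools.clifford_down ((MulAut.conj : X →* MulAut X).range) hd
    have hf' : f ∈ charDegrees X := H424.DegTools.charDegrees_of_surjective
      (MulAut.conj : X →* MulAut X).rangeRestrict (MonoidHom.rangeRestrict_surjective _) hf
    obtain ⟨h3, h4⟩ := deg_hn (mem_of_equiv e.symm hf')
    rw [Nat.mul_div_cancel_left _ (H424.DegTools.pos_of_mem hf)] at h2
    rcases (Nat.dvd_prime Nat.prime_two).1 (h2.trans hout) with rfl | rfl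
    · rw [mul_one]
      refine ⟨h3.trans (by norm_num), ?_⟩
      rw [ok, h4]; rfl
    · refine ⟨(Nat.mul_dvd_mul_right h3 2).trans (by norm_num), ?_⟩
      have h5 : okN (f * 2 / 2) = true := by rw [Nat.mul_div_cancel _ (by norm_num)]; exact h4
      have h6 : Nat.beq (f * 2 % 2) 0 = true := by rw [Nat.mul_mod_left]; rfl
      rw [ok, h5, h6]
      simp

theorem pp_chk : ∀ r ∈ [2, 3, 5, 7, 11, 19], ∀ v ∈ List.range 50, 1 ≤ v →
    r ^ v ∣ 546061824000000 ∧ ok (r ^ v) = true → (r = 2 ∧ v = 1) ∨ (r = 5 ∧ v = 5) := by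
  decide +kernel

theorem no_pp {r v : ℕ} (hr : r.Prime) (hv : 0 < v) (h1 : r ^ v ∣ 546061824000000) (h2 : ok (r ^ v) = true) :
    (r = 2 ∧ v = 1) ∨ (r = 5 ∧ v = 5) := by
  have h3 : r ∈ ([(2, 15), (3, 6), (5, 6), (7, 1), (11, 1), (19, 1)] : List (ℕ × ℕ)).map Prod.fst :=
    prime_mem hr _
    (fun x hx => by
      simp only [List.mem_cons, List.not_mem_nil, or_false] at hx
      rcases hx with rfl | rfl | rfl | rfl | rfl | rfl <;> norm_num)
    (by
      rw [show facProd [(2, 15), (3, 6), (5, 6), (7, 1), (11, 1), (19, 1)] = 546061824000000 by decide +kernel]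
      exact (dvd_pow_self r hv.ne').trans h1)
  have h4 : v < 50 := by
    by_contra hcon
    have h5 : 2 ^ 50 ≤ r ^ v := (Nat.pow_le_pow_right (by norm_num) (by omega)).trans (Nat.pow_le_pow_left hr.two_le v)
    have h6 := Nat.le_of_dvd (by norm_num) h1
    omega
  exact pp_chk r h3 v (List.mem_range.2 h4) hv ⟨h1, h2⟩

theorem low_chk : ∀ x ∈ [6, 7, 8, 9, 10, 11, 20, 16, 32, 21, 42, 22, 44, 36, 72, 209, 418],
    x ∣ 546061824000000 → ok x = true → False := by
  decide +kernel

section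

variable {A : Type u} [Group A] [Finite A] {S : Subgroup A} (hA : AlmostSimple A S)
  (hD : ∀ d ∈ charDegrees A, d ∣ 546061824000000 ∧ ok d = true)

include hA hD

theorem pr {p : ℕ} (hp : p.Prime) (hd : p ∣ Nat.card S) : p ∣ 546061824000000 := by
  obtain ⟨d, h1, h2⟩ := prime_deg hA hp hd
  exact h2.trans (hD d h1).1

theorem two (hout : Nat.card (Out S) ≤ 2) {a : ℕ} (ha : a ∈ charDegrees S)
    (h1 : a ∣ 546061824000000 → ok a = true → False)
    (h2 : 2 * a ∣ 546061824000000 → ok (2 * a) = true → False) : False := by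
  rcases two_deg hA hout ha with h | h
  · exact h1 (hD _ h).1 (hD _ h).2
  · exact h2 (hD _ h).1 (hD _ h).2

theorem lie {r : ℕ} (hr : r.Prime) (h : IsLieTypeChar r S) : False := by
  have h1 := lie_mem hA hr h
  have h2 : 0 < (Nat.card S).factorization r := by
    have := hA.simple
    exact hr.factorization_pos_of_dvd Nat.card_pos.ne' (H671.FactRows.prime_dvd_of_lie hr h)
  rcases no_pp hr h2 (hD _ h1).1 (hD _ h1).2 with ⟨rfl, h3⟩ | ⟨rfl, h3⟩
  · exact exp_ne_one h h3
  · have h4 := pr hA hD (p := 521) (by norm_num) (exp_five h h3)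
    norm_num at h4

theorem alt {m : ℕ} (hm : 5 ≤ m) (e : S ≃* alternatingGroup (Fin m)) : False := by
  rcases Nat.lt_or_ge m 7 with h7 | h7
  · have : m = 5 ∨ m = 6 := by omega
    rcases this with rfl | rfl
    · exact lie hA hD (by norm_num) (lie_five e)
    · exact lie hA hD (r := 3) (by norm_num) (H679.isLie_six ⟨e⟩)
  · have h18 : m ≤ 12 := by
      by_contra hcon
      have h1 := pr hA hD (p := 13) (by norm_num)
        (by rw [Nat.card_congr e.toEquiv]; exact prime_dvd_alt (by norm_num) (by norm_num) hm (by omega))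
      norm_num at h1
    have h1 := hD _ (alt_deg hA h7 e)
    refine low_chk (m - 1) ?_ h1.1 h1.2
    interval_cases m <;> decide

theorem tits (h : Lie.IsoTits S) : False := by
  have h1 := pr hA hD (p := 13) (by norm_num) (by rw [NotCT.Orders.tits h]; norm_num)
  norm_num at h1

theorem spor (h : IsSporadicGroup S) : Spor.IsoHN S := by
  have hout := H489.card_out_sporadic h
  have key : ∀ {a : ℕ}, a ∈ charDegrees S → (a ∣ 546061824000000 → ok a = true → False) →
      (2 * a ∣ 546061824000000 → ok (2 * a) = true → False) → Spor.IsoHN S :=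
    fun ha h1 h2 => (two hA hD hout ha h1 h2).elim
  have kp : ∀ {p N : ℕ}, p.Prime → Nat.card S = N → p ∣ N → ¬ p ∣ 546061824000000 → Spor.IsoHN S :=
    fun hp h1 h2 h3 => (h3 (pr hA hD hp (by rw [h1]; exact h2))).elim
  rcases h with h | h | h | h | h | h | h | h | h | h | h | h | h | h | h | h | h | h | h | h | h | h | h | h | h | h
  · obtain ⟨h1, h2, -⟩ := H603.FD.Spor.m11 (UGT.End.MEleven.isM11 h)
    exact key h1 (low_chk 10 (by decide)) (low_chk 20 (by decide))
  · obtain ⟨h1, h2, -⟩ := H603.FD.Spor.m12 (H603.FD.Spor.isM12 h)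
    exact key h1 (low_chk 16 (by decide)) (low_chk 32 (by decide))
  · obtain ⟨h1, h2, -⟩ := H603.FD.Spor.m22 (H417.RecogMathieu.isM22 h)
    exact key h1 (low_chk 21 (by decide)) (low_chk 42 (by decide))
  · exact kp (p := 23) (by norm_num) (NotCT.Orders.m23 h) (by norm_num) (by norm_num)
  · exact kp (p := 23) (by norm_num) (NotCT.Orders.m24 h) (by norm_num) (by norm_num)
  · exact key (H417.JOneDeg.greatest h).1.1 (low_chk 209 (by decide)) (low_chk 418 (by decide))
  · exact key (H672.SporIM.j2 h).2 (low_chk 36 (by decide)) (low_chk 72 (by decide))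
  · exact kp (p := 17) (by norm_num) (NotCT.Orders.j3 h) (by norm_num) (by norm_num)
  · exact kp (p := 43) (by norm_num) (NotCT.Orders.j4 h) (by norm_num) (by norm_num)
  · exact kp (p := 13) (by norm_num) (NotCT.Orders.co1 h) (by norm_num) (by norm_num)
  · exact kp (p := 23) (by norm_num) (NotCT.Orders.co2 h) (by norm_num) (by norm_num)
  · exact kp (p := 23) (by norm_num) (NotCT.Orders.co3 h) (by norm_num) (by norm_num)
  · exact key (mem_of_irr (H765.DS.HSMcL.mcl_22 h)) (low_chk 22 (by decide)) (low_chk 44 (by decide))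
  · exact key (mem_of_irr (H765.DS.HSMcL.hs_22 h)) (low_chk 22 (by decide)) (low_chk 44 (by decide))
  · exact kp (p := 13) (by norm_num) (NotCT.Orders.suz h) (by norm_num) (by norm_num)
  · exact kp (p := 17) (by norm_num) (NotCT.Orders.he h) (by norm_num) (by norm_num)
  · exact kp (p := 29) (by norm_num) (NotCT.Orders.ru h) (by norm_num) (by norm_num)
  · exact kp (p := 31) (by norm_num) (NotCT.Orders.on h) (by norm_num) (by norm_num)
  · exact kp (p := 67) (by norm_num) (NotCT.Orders.ly h) (by norm_num) (by norm_num)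
  · exact kp (p := 13) (by norm_num) (NotCT.Orders.fi22 h) (by norm_num) (by norm_num)
  · exact kp (p := 13) (by norm_num) (NotCT.Orders.fi23 h) (by norm_num) (by norm_num)
  · exact kp (p := 29) (by norm_num) (NotCT.Orders.fi24 h) (by norm_num) (by norm_num)
  · exact h
  · exact kp (p := 13) (by norm_num) (NotCT.Orders.th h) (by norm_num) (by norm_num)
  · exact kp (p := 47) (by norm_num) (NotCT.Orders.b h) (by norm_num) (by norm_num)
  · exact kp (p := 71) (by norm_num) (NotCT.Orders.m h) (by norm_num) (by norm_num)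

theorem main : Spor.IsoHN S := by
  have := hA.simple
  rcases exists_split S hA.nonab with ⟨l, hl, ⟨e⟩⟩ | ⟨r, hr, h⟩ | h | h
  · exact (alt hA hD hl e).elim
  · exact (lie hA hD hr h).elim
  · exact (tits hA hD h).elim
  · exact spor hA hD h

end

/-- **SOC1 for `HN`** -/
theorem soc1 {X : Type v} [Group X] [Finite X] (hX : Cfsg.IsHN X) {D : Set ℕ} (hD : H704.S8.Deg 2 X D) :
    H704.S8.Soc1.{u} D X := by
  intro A _ _ S hA h
  have hout : (MulAut.conj : X →* MulAut X).range.index ∣ 2 := by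
    obtain ⟨e⟩ := H58.S8.iso_hn hX
    rw [← H55.OutGen.card_out_eq_index, H55.OutGen.card_out_congr e, S2082.result]
  obtain ⟨e⟩ := main hA fun d hd => deg_X (H58.S8.iso_hn hX) hout hD (h hd)
  obtain ⟨f⟩ := H58.S8.iso_hn hX
  exact ⟨e.trans f.symm⟩

end Cfsg.Agent.H52.S8.HN
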