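import Cfsg.Agent.H196.S8.Core
import Cfsg.Agent.H511.Ore.RowLy
import Cfsg.Agent.H58.S8.Iso
import Cfsg.Agent.H672.SporIM.RankRows
import Cfsg.Agent.H765.DS.HSMcL
import Cfsg.Agent.H843.IMC.Co1B
import Cfsg.Agent.H603.FD.Spor
import Cfsg.Agent.NotCT.Orders
import Cfsg.Agent.H417.RecogMathieu

/-!
# S4908: the row SOC1 of `Ly` (helper52)

The residues of the degrees modulo 67, 37, 31 exclude all prime powers and all divisors `d` of `|Ly|` with
`1 < d ≤ 2479`. (After helper196's row `Fi₂₃`.)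
-/

set_option autoImplicit false
set_option maxRecDepth 100000

namespace Cfsg.Agent.H52.S8.Ly

open Cfsg Subgroup
open Cfsg.Agent.H196.S8
open Cfsg.Agent.H691.AN (AlmostSimple)
open Cfsg.Agent.H653.Sieve Cfsg.Agent.H651.Two Cfsg.Agent.H511.Ore
open Cfsg.Spor (Ly)

universe u v

/-- the admissible residues -/
def ok (d : ℕ) : Bool :=
  [0, 1, 22, 45, 66].contains (d % 67) && ([0, 1, 18, 19, 36].contains (d % 37) && [0, 1, 6, 25, 30].contains (d % 31))

theorem of_any {l : List (ℕ × ℤ)} {m : ℕ} (h : (l.any fun rw => Nat.beq m rw.1) = true) : m ∈ l.map Prod.fst := by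
  obtain ⟨x, hx, h1⟩ := List.any_eq_true.1 h
  rw [Nat.eq_of_beq_eq_true h1]
  exact List.mem_map_of_mem hx

theorem deg_ly {d : ℕ} (hd : d ∈ charDegrees Ly) : d ∣ 51765179004000000 ∧ ok d = true := by
  have := Cfsg.Agent.Ly.Setup.finite_ly
  have := Cfsg.Agent.Ly.Setup.isSimple_ly
  obtain ⟨χ, rfl⟩ := hd
  refine ⟨by rw [← Cfsg.Agent.Ly.Setup.card_ly]; exact charDegree_dvd χ, ?_⟩
  have hK : H995.CopEngine.AllKnown.{0} := fun X _ _ _ => S0000.result (G := X)
  have key := fun {c : CD} (hc : c ∈ Cfsg.Agent.H511.Ore.Ly.cd) =>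
    of_any (res_of_has Cfsg.Agent.H511.Ore.Ly.nonab Cfsg.Agent.Ly.Setup.card_ly
      (Cfsg.Agent.H511.Ore.Ly.has hK c hc) (List.all_eq_true.1 Cfsg.Agent.H511.Ore.Ly.chk1 _ hc) χ)
  have h1 := key (List.mem_cons_self)
  have h2 := key (List.mem_cons_of_mem _ List.mem_cons_self)
  have h3 := key (List.mem_cons_of_mem _ (List.mem_cons_of_mem _ List.mem_cons_self))
  rw [ok, Bool.and_eq_true, Bool.and_eq_true]
  exact ⟨List.contains_iff_mem.2 h1, List.contains_iff_mem.2 h2, List.contains_iff_mem.2 h3⟩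

theorem deg_X {X : Type v} [Group X] (h : Spor.IsoLy X) {d : ℕ} (hd : d ∈ charDegrees X) :
    d ∣ 51765179004000000 ∧ ok d = true := by
  obtain ⟨e⟩ := h
  exact deg_ly (mem_of_equiv e.symm hd)

theorem pp_chk : ∀ r ∈ [67, 37, 31, 11, 7, 5, 3, 2], ∀ v ∈ List.range 56, 1 ≤ v →
    ¬ (r ^ v ∣ 51765179004000000 ∧ ok (r ^ v) = true) := by
  decide +kernel

theorem no_pp {r v : ℕ} (hr : r.Prime) (hv : 0 < v) (h1 : r ^ v ∣ 51765179004000000) (h2 : ok (r ^ v) = true) :
    False := by
  have h3 : r ∈ Cfsg.Agent.H511.Ore.Ly.fac.map Prod.fst := prime_mem hr Cfsg.Agent.H511.Ore.Ly.fac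
    (fun x hx => of_decide_eq_true (List.all_eq_true.1 Cfsg.Agent.H511.Ore.Ly.chk2 x hx))
    (by rw [Cfsg.Agent.H511.Ore.Ly.chk3]; exact (dvd_pow_self r hv.ne').trans h1)
  have h4 : v < 56 := by
    by_contra hcon
    have h5 : 2 ^ 56 ≤ r ^ v := (Nat.pow_le_pow_right (by norm_num) (by omega)).trans (Nat.pow_le_pow_left hr.two_le v)
    have h6 := Nat.le_of_dvd (by norm_num) h1
    omega
  exact pp_chk r h3 v (List.mem_range.2 h4) hv ⟨h1, h2⟩

theorem low_chk : ∀ x ∈ [6, 7, 8, 9, 10, 11, 20, 16, 32, 21, 42, 22, 44, 36, 72],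
    x ∣ 51765179004000000 → ok x = true → False := by
  decide +kernel

section

variable {A : Type u} [Group A] [Finite A] {S : Subgroup A} (hA : AlmostSimple A S)
  (hD : ∀ d ∈ charDegrees A, d ∣ 51765179004000000 ∧ ok d = true)

include hA hD

theorem pr {p : ℕ} (hp : p.Prime) (hd : p ∣ Nat.card S) : p ∣ 51765179004000000 := by
  obtain ⟨d, h1, h2⟩ := prime_deg hA hp hd
  exact h2.trans (hD d h1).1

theorem two (hout : Nat.card (Out S) ≤ 2) {a : ℕ} (ha : a ∈ charDegrees S)
    (h1 : a ∣ 51765179004000000 → ok a = true → False)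
    (h2 : 2 * a ∣ 51765179004000000 → ok (2 * a) = true → False) : False := by
  rcases two_deg hA hout ha with h | h
  · exact h1 (hD _ h).1 (hD _ h).2
  · exact h2 (hD _ h).1 (hD _ h).2

theorem lie {r : ℕ} (hr : r.Prime) (h : IsLieTypeChar r S) : False := by
  obtain ⟨v, hv, h1⟩ := lie_pp hA hr h
  exact no_pp hr hv (hD _ h1).1 (hD _ h1).2

theorem alt {m : ℕ} (hm : 5 ≤ m) (e : S ≃* alternatingGroup (Fin m)) : False := by
  rcases Nat.lt_or_ge m 7 with h7 | h7
  · have : m = 5 ∨ m = 6 := by omega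
    rcases this with rfl | rfl
    · exact lie hA hD (by norm_num) (lie_five e)
    · exact lie hA hD (r := 3) (by norm_num) (H679.isLie_six ⟨e⟩)
  · have h18 : m ≤ 12 := by
      by_contra hcon
      have h1 := pr hA hD (p := 13) (by norm_num)
        (by rw [Nat.card_congr e.toEquiv]; exact prime_dvd_alt (by norm_num) (by norm_num) hm (by omega))
      norm_num at h1
    have h1 := hD _ (alt_deg hA h7 e)
    refine low_chk (m - 1) ?_ h1.1 h1.2
    interval_cases m <;> decide

theorem tits (h : Lie.IsoTits S) : False := by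
  have h1 := pr hA hD (p := 13) (by norm_num) (by rw [NotCT.Orders.tits h]; norm_num)
  norm_num at h1

theorem spor (h : IsSporadicGroup S) : Spor.IsoLy S := by
  have hout := H489.card_out_sporadic h
  have key : ∀ {a : ℕ}, a ∈ charDegrees S → (a ∣ 51765179004000000 → ok a = true → False) →
      (2 * a ∣ 51765179004000000 → ok (2 * a) = true → False) → Spor.IsoLy S :=
    fun ha h1 h2 => (two hA hD hout ha h1 h2).elim
  have kp : ∀ {p N : ℕ}, p.Prime → Nat.card S = N → p ∣ N → ¬ p ∣ 51765179004000000 → Spor.IsoLy S :=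
    fun hp h1 h2 h3 => (h3 (pr hA hD hp (by rw [h1]; exact h2))).elim
  rcases h with h | h | h | h | h | h | h | h | h | h | h | h | h | h | h | h | h | h | h | h | h | h | h | h | h | h
  · obtain ⟨h1, h2, -⟩ := H603.FD.Spor.m11 (UGT.End.MEleven.isM11 h)
    exact key h1 (low_chk 10 (by decide)) (low_chk 20 (by decide))
  · obtain ⟨h1, h2, -⟩ := H603.FD.Spor.m12 (H603.FD.Spor.isM12 h)
    exact key h1 (low_chk 16 (by decide)) (low_chk 32 (by decide))
  · obtain ⟨h1, h2, -⟩ := H603.FD.Spor.m22 (H417.RecogMathieu.isM22 h)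
    exact key h1 (low_chk 21 (by decide)) (low_chk 42 (by decide))
  · exact kp (p := 23) (by norm_num) (NotCT.Orders.m23 h) (by norm_num) (by norm_num)
  · exact kp (p := 23) (by norm_num) (NotCT.Orders.m24 h) (by norm_num) (by norm_num)
  · exact kp (p := 19) (by norm_num) (NotCT.Orders.j1 h) (by norm_num) (by norm_num)
  · exact key (H672.SporIM.j2 h).2 (low_chk 36 (by decide)) (low_chk 72 (by decide))
  · exact kp (p := 19) (by norm_num) (NotCT.Orders.j3 h) (by norm_num) (by norm_num)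
  · exact kp (p := 43) (by norm_num) (NotCT.Orders.j4 h) (by norm_num) (by norm_num)
  · exact kp (p := 13) (by norm_num) (NotCT.Orders.co1 h) (by norm_num) (by norm_num)
  · exact kp (p := 23) (by norm_num) (NotCT.Orders.co2 h) (by norm_num) (by norm_num)
  · exact kp (p := 23) (by norm_num) (NotCT.Orders.co3 h) (by norm_num) (by norm_num)
  · exact key (mem_of_irr (H765.DS.HSMcL.mcl_22 h)) (low_chk 22 (by decide)) (low_chk 44 (by decide))
  · exact key (mem_of_irr (H765.DS.HSMcL.hs_22 h)) (low_chk 22 (by decide)) (low_chk 44 (by decide))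
  · exact kp (p := 13) (by norm_num) (NotCT.Orders.suz h) (by norm_num) (by norm_num)
  · exact kp (p := 17) (by norm_num) (NotCT.Orders.he h) (by norm_num) (by norm_num)
  · exact kp (p := 29) (by norm_num) (NotCT.Orders.ru h) (by norm_num) (by norm_num)
  · exact kp (p := 19) (by norm_num) (NotCT.Orders.on h) (by norm_num) (by norm_num)
  · exact h
  · exact kp (p := 13) (by norm_num) (NotCT.Orders.fi22 h) (by norm_num) (by norm_num)
  · exact kp (p := 13) (by norm_num) (NotCT.Orders.fi23 h) (by norm_num) (by norm_num)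
  · exact kp (p := 29) (by norm_num) (NotCT.Orders.fi24 h) (by norm_num) (by norm_num)
  · exact kp (p := 19) (by norm_num) (NotCT.Orders.hn h) (by norm_num) (by norm_num)
  · exact kp (p := 13) (by norm_num) (NotCT.Orders.th h) (by norm_num) (by norm_num)
  · exact kp (p := 47) (by norm_num) (NotCT.Orders.b h) (by norm_num) (by norm_num)
  · exact kp (p := 71) (by norm_num) (NotCT.Orders.m h) (by norm_num) (by norm_num)

theorem main : Spor.IsoLy S := by
  have := hA.simple
  rcases exists_split S hA.nonab with ⟨l, hl, ⟨e⟩⟩ | ⟨r, hr, h⟩ | h | h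
  · exact (alt hA hD hl e).elim
  · exact (lie hA hD hr h).elim
  · exact (tits hA hD h).elim
  · exact spor hA hD h

end

/-- **SOC1 for `Ly`**, model version -/
theorem soc1_iso {X : Type v} [Group X] (hX : Spor.IsoLy X) {D : Set ℕ} (hD : H704.S8.Deg 1 X D) :
    H704.S8.Soc1.{u} D X := by
  intro A _ _ S hA h
  obtain rfl : D = charDegrees X := hD.resolve_right fun h => absurd h.1 (by norm_num)
  obtain ⟨e⟩ := main hA fun d hd => deg_X hX (h hd)
  obtain ⟨f⟩ := hX
  exact ⟨e.trans f.symm⟩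

/-- **SOC1 for `Ly`** -/
theorem soc1 {X : Type v} [Group X] [Finite X] (hX : Cfsg.IsLy X) {D : Set ℕ} (hD : H704.S8.Deg 1 X D) :
    H704.S8.Soc1.{u} D X := soc1_iso (H58.S8.iso_ly hX) hD

end Cfsg.Agent.H52.S8.Ly
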